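import Groth.Agent.Lib.AlgSpace.LqfScheme
import Groth.Agent.Lib.AlgSpace.SepDescend
import Groth.Agent.Lib.AlgSpDescent.RedNoeth
import Groth.Agent.S9336
import Groth.Prelude.Def_AlgSpSub
import Mathlib.CategoryTheory.Sites.RegularEpi

/-!
# Reduced algebraic spaces covered by two affine closed subspaces

Such a space maps to the spectrum of the ring of compatible pairs of functions by a separated,
locally quasi-finite morphism, so it is a scheme.
-/

universe u

set_option backward.isDefEq.respectTransparency.types false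
set_option backward.isDefEq.respectTransparency false
set_option linter.unusedVariables false

open CategoryTheory CategoryTheory.Limits AlgebraicGeometry Opposite

namespace Groth.Agent.TwoPiece14

open AlgSp Groth.Agent.AlgSpace Groth.Agent.AlgSpDecent

noncomputable section

/-! ## Rings and affine schemes -/

/-- A map from a spectrum into an affine scheme. -/
def fromSpec {Y : Scheme.{u}} [IsAffine Y] {R' : CommRingCat.{u}} (φ : Γ(Y, ⊤) ⟶ R') : Spec R' ⟶ Y :=
  Spec.map φ ≫ Y.isoSpec.inv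

lemma fromSpec_appTop {Y : Scheme.{u}} [IsAffine Y] {R' : CommRingCat.{u}} (φ : Γ(Y, ⊤) ⟶ R') :
    (fromSpec φ).appTop = φ ≫ (Scheme.ΓSpecIso R').inv := by
  have h : (fromSpec φ ≫ Y.isoSpec.hom).appTop = (Spec.map φ).appTop := by
    simp only [fromSpec, Category.assoc, Iso.inv_hom_id, Category.comp_id]
  rw [Scheme.Hom.comp_appTop, show Y.isoSpec.hom = Y.toSpecΓ from rfl, Scheme.toSpecΓ_appTop] at h
  rw [← cancel_epi (Scheme.ΓSpecIso Γ(Y, ⊤)).hom, h, ← Category.assoc,
    ← Scheme.ΓSpecIso_naturality, Category.assoc, Iso.hom_inv_id, Category.comp_id]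

variable {R : CommRingCat.{u}}

/-- The ring map of a morphism into a spectrum. -/
def θ {X : Scheme.{u}} (h : X ⟶ Spec R) : R ⟶ Γ(X, ⊤) := (Scheme.ΓSpecIso R).inv ≫ h.appTop

lemma θ_comp {X Y : Scheme.{u}} (k : X ⟶ Y) (h : Y ⟶ Spec R) : θ (k ≫ h) = θ h ≫ k.appTop := by
  simp [θ]

lemma θ_ext {X : Scheme.{u}} {h h' : X ⟶ Spec R} (e : θ h = θ h') : h = h' :=
  ext_of_isAffine ((cancel_epi (Scheme.ΓSpecIso R).inv).1 e)

lemma θ_toSpec {X : Scheme.{u}} (φ : R ⟶ Γ(X, ⊤)) : θ (X.toSpecΓ ≫ Spec.map φ) = φ := by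
  rw [θ, Scheme.Hom.comp_appTop, Scheme.toSpecΓ_appTop, Scheme.ΓSpecIso_naturality,
    Iso.inv_hom_id_assoc]

lemma exists_glue {O OA OB : CommRingCat.{u}} (qA : O ⟶ OA) (qB : O ⟶ OB)
    (inj : ∀ o, qA.hom o = 0 → qB.hom o = 0 → o = 0) (a : R ⟶ OA) (b : R ⟶ OB)
    (hA : Function.Surjective qA.hom) (hB : Function.Surjective qB.hom)
    (agree : ∀ r o o', qA.hom o = a.hom r → qB.hom o' = b.hom r →
      o - o' ∈ RingHom.ker qA.hom ⊔ RingHom.ker qB.hom) :
    ∃ t : R ⟶ O, t ≫ qA = a ∧ t ≫ qB = b := by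
  have h : ∀ r, ∃ o, qA.hom o = a.hom r ∧ qB.hom o = b.hom r := fun r => by
    obtain ⟨o, ho⟩ := hA (a.hom r)
    obtain ⟨o', ho'⟩ := hB (b.hom r)
    obtain ⟨i, hi, j, hj, e⟩ := Submodule.mem_sup.1 (agree r o o' ho ho')
    refine ⟨o - i, by rw [map_sub, RingHom.mem_ker.1 hi, sub_zero, ho], ?_⟩
    rw [show o - i = o' + j by linear_combination -e, map_add, RingHom.mem_ker.1 hj, add_zero, ho']
  choose f hfA hfB using h
  have ext2 : ∀ x y, qA.hom x = qA.hom y → qB.hom x = qB.hom y → x = y := fun x y h₁ h₂ =>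
    sub_eq_zero.1 (inj _ (by rw [map_sub, h₁, sub_self]) (by rw [map_sub, h₂, sub_self]))
  refine ⟨CommRingCat.ofHom
    { toFun := f
      map_one' := ext2 _ _ (by simp [hfA]) (by simp [hfB])
      map_zero' := ext2 _ _ (by simp [hfA]) (by simp [hfB])
      map_add' := fun x y => ext2 _ _ (by simp [hfA]) (by simp [hfB])
      map_mul' := fun x y => ext2 _ _ (by simp [hfA]) (by simp [hfB]) }, ?_, ?_⟩ <;>
  ext r
  · exact hfA r
  · exact hfB r

/-- Finite type is inherited by a ring glued from two quotients. -/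
lemma finiteType_glue {R O OA OB : Type u} [CommRing R] [CommRing O] [CommRing OA] [CommRing OB]
    (t : R →+* O) (qA : O →+* OA) (qB : O →+* OB) (hA : Function.Surjective qA)
    (hB : Function.Surjective qB) (inj : ∀ o, qA o = 0 → qB o = 0 → o = 0)
    (ftA : (qA.comp t).FiniteType) (ftB : (qB.comp t).FiniteType)
    (hker : ∀ y, qA y = 0 → qB y ∈ (RingHom.ker (qA.comp t)).map (qB.comp t)) :
    t.FiniteType := by
  letI := t.toAlgebra
  letI := (qA.comp t).toAlgebra
  letI := (qB.comp t).toAlgebra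
  let fA : O →ₐ[R] OA := { qA with commutes' := fun _ => rfl }
  let fB : O →ₐ[R] OB := { qB with commutes' := fun _ => rfl }
  obtain ⟨sA, hsA⟩ := (ftA : Algebra.FiniteType R OA).1
  obtain ⟨sB, hsB⟩ := (ftB : Algebra.FiniteType R OB).1
  choose lA hlA using hA
  choose lB hlB using hB
  classical
  let s := sA.image lA ∪ sB.image lB
  let O' := Algebra.adjoin R (s : Set O)
  have surA : ∀ x, ∃ o ∈ O', qA o = x := fun x => by
    have : Algebra.adjoin R (sA : Set OA) ≤ O'.map fA := Algebra.adjoin_le fun z hz =>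
      ⟨lA z, Algebra.subset_adjoin (Finset.mem_union_left _ (Finset.mem_image_of_mem lA hz)), hlA z⟩
    rw [hsA] at this
    exact this (Algebra.mem_top : x ∈ (⊤ : Subalgebra R OA))
  have surB : Function.Surjective (qB.comp O'.val.toRingHom) := fun x => by
    have : Algebra.adjoin R (sB : Set OB) ≤ O'.map fB := Algebra.adjoin_le fun z hz =>
      ⟨lB z, Algebra.subset_adjoin (Finset.mem_union_right _ (Finset.mem_image_of_mem lB hz)), hlB z⟩
    rw [hsB] at this
    obtain ⟨o, ho, e⟩ := this (Algebra.mem_top : x ∈ (⊤ : Subalgebra R OB))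
    exact ⟨⟨o, ho⟩, e⟩
  refine ⟨⟨s, eq_top_iff.2 fun x _ => ?_⟩⟩
  obtain ⟨o, ho, hox⟩ := surA (qA x)
  have hy : qA (x - o) = 0 := by rw [map_sub, hox, sub_self]
  have hle : (RingHom.ker (qA.comp t)).map (qB.comp t) ≤
      (RingHom.ker (qA.comp O'.val.toRingHom)).map (qB.comp O'.val.toRingHom) := by
    refine Ideal.map_le_iff_le_comap.2 fun r hr => ?_
    have h' : (⟨t r, O'.algebraMap_mem r⟩ : O') ∈ RingHom.ker (qA.comp O'.val.toRingHom) :=
      RingHom.mem_ker.2 (RingHom.mem_ker.1 hr :)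
    exact Ideal.mem_map_of_mem (qB.comp O'.val.toRingHom) h'
  obtain ⟨o', ho', e⟩ := (Ideal.mem_map_iff_of_surjective _ surB).1 (hle (hker _ hy))
  have : x - o = (o' : O) := sub_eq_zero.1 (inj _
    (by rw [map_sub, hy, show qA (o' : O) = 0 from RingHom.mem_ker.1 ho', sub_self])
    (by rw [map_sub, show qB (o' : O) = qB (x - o) from e, sub_self]))
  rw [show x = (o' : O) + o by rw [← this]; ring]
  exact add_mem o'.2 ho

/-! ## Pieces -/

variable {S : Scheme.{u}}

/-- An affine closed subspace with a closed immersion into the target. -/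
structure Piece (W : Sp S) (R : CommRingCat.{u}) where
  P : Over S
  j : (yon S).obj P ⟶ W
  ci : RepWith @IsClosedImmersion j
  r : P.left ⟶ Spec R
  rci : IsClosedImmersion r

namespace Piece

variable {W : Sp S} (a : Piece W R) {V : Over S} (g : (yon S).obj V ⟶ W)

theorem affine : IsAffine a.P.left := by
  have := a.rci
  exact isAffine_of_isAffineHom a.r

/-- The inverse image of the piece. -/
def pre : Over S := a.ci.1.pullback g

/-- Its inclusion. -/
def p : a.pre g ⟶ V := a.ci.1.snd g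

/-- Its map to the piece. -/
def f : a.pre g ⟶ a.P := (yon S).preimage (a.ci.1.fst g)

theorem sq : IsPullback ((yon S).map (a.f g)) ((yon S).map (a.p g)) a.j g := by
  rw [f, (yon S).map_preimage]
  exact a.ci.1.isPullback g

theorem closed : IsClosedImmersion (a.p g).left := a.ci.2 g _ _ (a.ci.1.isPullback g)

/-- A map to the target is compatible with the piece. -/
def Good (h : V.left ⟶ Spec R) : Prop :=
  ∀ ⦃Q : Over S⦄ (e : Q ⟶ V) (z : Q ⟶ a.P),
    (yon S).map z ≫ a.j = (yon S).map e ≫ g → e.left ≫ h = z.left ≫ a.r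

variable {a g}

theorem Good.eq {h : V.left ⟶ Spec R} (hh : a.Good g h) : (a.p g).left ≫ h = (a.f g).left ≫ a.r :=
  hh _ _ (a.sq g).w

theorem good_of {h : V.left ⟶ Spec R} (hh : (a.p g).left ≫ h = (a.f g).left ≫ a.r) :
    a.Good g h := fun Q e z w => by
  obtain ⟨l, hl⟩ := (yon S).map_surjective ((a.sq g).lift _ _ w)
  have h₁ : l ≫ a.f g = z := (yon S).map_injective (by
    rw [Functor.map_comp, hl]; exact (a.sq g).lift_fst _ _ _)
  have h₂ : l ≫ a.p g = e := (yon S).map_injective (by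
    rw [Functor.map_comp, hl]; exact (a.sq g).lift_snd _ _ _)
  rw [← h₁, ← h₂, Over.comp_left, Over.comp_left, Category.assoc, Category.assoc, hh]

theorem Good.precomp {h : V.left ⟶ Spec R} (hh : a.Good g h) {V' : Over S} (k : V' ⟶ V) :
    a.Good ((yon S).map k ≫ g) (k.left ≫ h) := fun Q e z w => by
  have := hh (e ≫ k) z (by rw [w, Functor.map_comp, Category.assoc])
  rwa [Over.comp_left, Category.assoc] at this

variable (a g)

theorem mem_range {v : ↥V.left} (hv : Points.ofPt g v ∈ Set.range (Points.map a.j)) :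
    v ∈ Set.range (a.p g).left := by
  obtain ⟨x, hx⟩ := hv
  obtain ⟨w, -, hw⟩ := exists_pt_of_isPullback (a.ci.1.isPullback g) hx
  exact ⟨w, hw⟩

end Piece

/-! ## Two pieces -/

variable (S) in
/-- A reduced algebraic space covered by two pieces glued compatibly in the target. -/
structure Data where
  W : Sp S
  hW : IsAlgSpace W
  red : IsReducedSp W
  R : CommRingCat.{u}
  a : Piece W R
  b : Piece W R
  compat : ∀ ⦃Q : Over S⦄ (za : Q ⟶ a.P) (zb : Q ⟶ b.P),
    (yon S).map za ≫ a.j = (yon S).map zb ≫ b.j → za.left ≫ a.r = zb.left ≫ b.r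
  hker : ∀ x : Γ((a.ci.1.pullback b.j).left, ⊤),
    ∀ y, (a.ci.1.snd b.j).left.appTop.hom y = x → x = 0 →
      ∃ r, (θ a.r).hom r = 0 ∧ (θ b.r).hom r = y
  cov : ∀ x : Points W, x ∈ Set.range (Points.map a.j) ∨ x ∈ Set.range (Points.map b.j)

namespace Data

variable (D : Data S) {V : Over S} (g : (yon S).obj V ⟶ D.W)

/-- Compatibility with both pieces. -/
def Good (h : V.left ⟶ Spec D.R) : Prop := D.a.Good g h ∧ D.b.Good g h

variable {D g}

theorem Good.precomp {h : V.left ⟶ Spec D.R} (hh : D.Good g h) {V' : Over S} (k : V' ⟶ V) :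
    D.Good ((yon S).map k ≫ g) (k.left ≫ h) := ⟨hh.1.precomp k, hh.2.precomp k⟩

variable (D g)

theorem cover (v : ↥V.left) : v ∈ Set.range (D.a.p g).left ∨ v ∈ Set.range (D.b.p g).left :=
  (D.cov (Points.ofPt g v)).imp (D.a.mem_range g) (D.b.mem_range g)

/-- The two inverse images together. -/
def both : (D.a.pre g).left ⨿ (D.b.pre g).left ⟶ V.left :=
  Limits.coprod.desc (D.a.p g).left (D.b.p g).left

theorem surjective_both : Surjective (D.both g) := ⟨fun v => by
  rcases D.cover g v with ⟨w, hw⟩ | ⟨w, hw⟩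
  · refine ⟨(Limits.coprod.inl : (D.a.pre g).left ⟶ (D.a.pre g).left ⨿ (D.b.pre g).left) w, ?_⟩
    rw [← hw]
    exact (Scheme.Hom.comp_apply _ _ _).symm.trans (congrArg (fun q : (D.a.pre g).left ⟶ V.left => q w)
      (Limits.coprod.inl_desc _ _))
  · refine ⟨(Limits.coprod.inr : (D.b.pre g).left ⟶ (D.a.pre g).left ⨿ (D.b.pre g).left) w, ?_⟩
    rw [← hw]
    exact (Scheme.Hom.comp_apply _ _ _).symm.trans (congrArg (fun q : (D.b.pre g).left ⟶ V.left => q w)
      (Limits.coprod.inr_desc _ _))⟩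

theorem uniq [IsReduced V.left] {h h' : V.left ⟶ Spec D.R} (hh : D.Good g h) (hh' : D.Good g h') :
    h = h' := by
  have := D.surjective_both g
  refine ext_of_isDominant (D.both g) ?_
  apply Limits.coprod.hom_ext
  · simp only [both, Limits.coprod.inl_desc_assoc, hh.1.eq, hh'.1.eq]
  · simp only [both, Limits.coprod.inr_desc_assoc, hh.2.eq, hh'.2.eq]

theorem inj [IsAffine V.left] [IsReduced V.left] (o : Γ(V.left, ⊤))
    (ha : (D.a.p g).left.appTop.hom o = 0) (hb : (D.b.p g).left.appTop.hom o = 0) : o = 0 := by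
  refine (basicOpen_eq_bot_iff o).1 (eq_bot_iff.2 fun v hv => ?_)
  rcases D.cover g v with ⟨w, rfl⟩ | ⟨w, rfl⟩
  · have : w ∈ (D.a.p g).left ⁻¹ᵁ V.left.basicOpen o := hv
    rw [Scheme.preimage_basicOpen_top, ha, Scheme.basicOpen_zero] at this
    exact this.elim
  · have : w ∈ (D.b.p g).left ⁻¹ᵁ V.left.basicOpen o := hv
    rw [Scheme.preimage_basicOpen_top, hb, Scheme.basicOpen_zero] at this
    exact this.elim

theorem surj_p (a : Piece D.W D.R) [IsAffine V.left] :
    IsAffine (a.pre g).left ∧ Function.Surjective (a.p g).left.appTop.hom :=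
  have := a.closed g
  IsClosedImmersion.isAffine_surjective_of_isAffine _

set_option maxHeartbeats 1000000 in
theorem exists_good_affine [IsAffine V.left] [IsReduced V.left] : ∃ h, D.Good g h := by
  obtain ⟨_, hA⟩ := D.surj_p g D.a
  obtain ⟨_, hB⟩ := D.surj_p g D.b
  let qA := (D.a.p g).left.appTop
  let qB := (D.b.p g).left.appTop
  let I := RingHom.ker qA.hom ⊔ RingHom.ker qB.hom
  let Rq : CommRingCat.{u} := CommRingCat.of (Γ(V.left, ⊤) ⧸ I)
  let mk : Γ(V.left, ⊤) ⟶ Rq := CommRingCat.ofHom (Ideal.Quotient.mk I)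
  let uA : Γ((D.a.pre g).left, ⊤) ⟶ Rq := CommRingCat.ofHom (RingHom.liftOfSurjective qA.hom hA
    ⟨mk.hom, fun x hx => Ideal.Quotient.eq_zero_iff_mem.2 (Ideal.mem_sup_left hx)⟩)
  let uB : Γ((D.b.pre g).left, ⊤) ⟶ Rq := CommRingCat.ofHom (RingHom.liftOfSurjective qB.hom hB
    ⟨mk.hom, fun x hx => Ideal.Quotient.eq_zero_iff_mem.2 (Ideal.mem_sup_right hx)⟩)
  have huA : qA ≫ uA = mk := by
    exact CommRingCat.hom_ext (RingHom.liftOfRightInverse_comp _ _ _ _)
  have huB : qB ≫ uB = mk := by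
    exact CommRingCat.hom_ext (RingHom.liftOfRightInverse_comp _ _ _ _)
  let m : Spec Rq ⟶ V.left := fromSpec mk
  have hmA : fromSpec uA ≫ (D.a.p g).left = m := ext_of_isAffine (by
    rw [Scheme.Hom.comp_appTop, fromSpec_appTop, fromSpec_appTop, ← Category.assoc, huA])
  have hmB : fromSpec uB ≫ (D.b.p g).left = m := ext_of_isAffine (by
    rw [Scheme.Hom.comp_appTop, fromSpec_appTop, fromSpec_appTop, ← Category.assoc, huB])
  let Q : Over S := Over.mk (m ≫ V.hom)
  let lA : Q ⟶ D.a.pre g := Over.homMk (fromSpec uA) (by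
    show _ = m ≫ V.hom
    rw [← Over.w (D.a.p g), ← Category.assoc, hmA])
  let lB : Q ⟶ D.b.pre g := Over.homMk (fromSpec uB) (by
    show _ = m ≫ V.hom
    rw [← Over.w (D.b.p g), ← Category.assoc, hmB])
  have hl : lA ≫ D.a.p g = lB ≫ D.b.p g := Over.OverMorphism.ext (hmA.trans hmB.symm)
  have key := D.compat (lA ≫ D.a.f g) (lB ≫ D.b.f g) (by
    rw [Functor.map_comp, Functor.map_comp, Category.assoc, Category.assoc, (D.a.sq g).w,
      (D.b.sq g).w, ← Category.assoc, ← Category.assoc, ← Functor.map_comp, ← Functor.map_comp, hl])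
  have key' : θ ((D.a.f g).left ≫ D.a.r) ≫ uA = θ ((D.b.f g).left ≫ D.b.r) ≫ uB := by
    have := congrArg θ key
    simp only [Over.comp_left, Category.assoc] at this
    rw [θ_comp lA.left, θ_comp lB.left] at this
    rw [show (lA.left).appTop = uA ≫ (Scheme.ΓSpecIso Rq).inv from fromSpec_appTop uA,
      show (lB.left).appTop = uB ≫ (Scheme.ΓSpecIso Rq).inv from fromSpec_appTop uB,
      ← Category.assoc, ← Category.assoc] at this
    exact (cancel_mono (Scheme.ΓSpecIso Rq).inv).1 this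
  obtain ⟨t, htA, htB⟩ := exists_glue qA qB (D.inj g) (θ ((D.a.f g).left ≫ D.a.r))
    (θ ((D.b.f g).left ≫ D.b.r)) hA hB fun r o o' ho ho' => by
      have h := RingHom.congr_fun (congrArg CommRingCat.Hom.hom key') r
      simp only [CommRingCat.hom_comp, RingHom.comp_apply] at h
      rw [← ho, ← ho'] at h
      have h₁ := RingHom.congr_fun (congrArg CommRingCat.Hom.hom huA) o
      have h₂ := RingHom.congr_fun (congrArg CommRingCat.Hom.hom huB) o'
      simp only [CommRingCat.hom_comp, RingHom.comp_apply] at h₁ h₂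
      rw [h₁, h₂] at h
      exact Ideal.Quotient.eq.1 h
  refine ⟨V.left.toSpecΓ ≫ Spec.map t, Piece.good_of (θ_ext ?_), Piece.good_of (θ_ext ?_)⟩
  · rw [θ_comp, θ_toSpec]; exact htA
  · rw [θ_comp, θ_toSpec]; exact htB

theorem exists_good [IsReduced V.left] : ∃ h, D.Good g h := by
  let 𝒰 := V.left.affineCover
  let Vi (i : 𝒰.I₀) : Over S := Over.mk (𝒰.f i ≫ V.hom)
  let ki (i : 𝒰.I₀) : Vi i ⟶ V := Over.homMk (𝒰.f i) rfl
  have : ∀ i, IsAffine (Vi i).left := fun i => inferInstanceAs (IsAffine (𝒰.X i))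
  have : ∀ i, IsReduced (Vi i).left := fun i => isReduced_of_isOpenImmersion (𝒰.f i)
  choose h hh using fun i => D.exists_good_affine ((yon S).map (ki i) ≫ g)
  have compat : ∀ i j, pullback.fst (𝒰.f i) (𝒰.f j) ≫ h i = pullback.snd _ _ ≫ h j := fun i j => by
    let P : Over S := Over.mk (pullback.fst (𝒰.f i) (𝒰.f j) ≫ 𝒰.f i ≫ V.hom)
    let p₁ : P ⟶ Vi i := Over.homMk (pullback.fst (𝒰.f i) (𝒰.f j)) rfl
    let p₂ : P ⟶ Vi j := Over.homMk (pullback.snd (𝒰.f i) (𝒰.f j)) (by
      exact ((pullback.condition_assoc V.hom) : _).symm)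
    have : IsReduced P.left := isReduced_of_isOpenImmersion (pullback.fst (𝒰.f i) (𝒰.f j) ≫ 𝒰.f i)
    have e : (yon S).map p₁ ≫ (yon S).map (ki i) ≫ g = (yon S).map p₂ ≫ (yon S).map (ki j) ≫ g := by
      rw [← Category.assoc, ← Category.assoc, ← Functor.map_comp, ← Functor.map_comp]
      congr 2
      exact Over.OverMorphism.ext pullback.condition
    exact D.uniq _ ((hh i).precomp p₁) (e ▸ (hh j).precomp p₂)
  have main : ∀ a : Piece D.W D.R, (∀ i, a.Good ((yon S).map (ki i) ≫ g) (h i)) →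
      a.Good g (𝒰.glueMorphisms h compat) := fun a ha => by
    refine Piece.good_of (Scheme.Cover.hom_ext (𝒰.pullback₁ (a.p g).left) _ _ fun i => ?_)
    show pullback.fst _ _ ≫ _ = pullback.fst _ _ ≫ _
    let Q : Over S := Over.mk (pullback.fst (a.p g).left (𝒰.f i) ≫ (a.pre g).hom)
    let z : Q ⟶ a.pre g := Over.homMk (pullback.fst (a.p g).left (𝒰.f i)) rfl
    let e : Q ⟶ Vi i := Over.homMk (pullback.snd (a.p g).left (𝒰.f i)) (by
      show _ = pullback.fst (a.p g).left (𝒰.f i) ≫ (a.pre g).hom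
      rw [← Over.w (a.p g), pullback.condition_assoc]; rfl)
    have he : z ≫ a.p g = e ≫ ki i := Over.OverMorphism.ext pullback.condition
    have := ha i e (z ≫ a.f g) (by
      rw [Functor.map_comp, Category.assoc, (a.sq g).w, ← Category.assoc, ← Category.assoc,
        ← Functor.map_comp, ← Functor.map_comp, he])
    rw [Over.comp_left, Category.assoc] at this
    rw [pullback.condition_assoc, Scheme.Cover.ι_glueMorphisms]
    exact this
  exact ⟨_, main D.a fun i => (hh i).1, main D.b fun i => (hh i).2⟩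

variable {D g}

theorem piece_lft (a : Piece D.W D.R) (hg : RepWith @Etale g) {h : V.left ⟶ Spec D.R}
    (hh : a.Good g h) :
    LocallyOfFiniteType ((a.p g).left ≫ h) ∧ LocallyQuasiFinite ((a.p g).left ≫ h) := by
  rw [hh.eq]
  have := a.rci
  have hf : Etale (a.f g).left :=
    (repWith_yon_map_iff @Etale _).1 (repWith_of_isPullback (a.sq g).flip hg)
  have : LocallyQuasiFinite (a.f g).left := by
    exact (EtaleLocal.etale_le (P := @LocallyQuasiFinite.{u})) _ _ _ hf
  have : LocallyOfFiniteType (a.f g).left := inferInstance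
  exact ⟨inferInstance, inferInstance⟩

set_option maxHeartbeats 1000000 in
theorem lft_affine [IsAffine V.left] [IsReduced V.left] (hg : RepWith @Etale g)
    {h : V.left ⟶ Spec D.R} (hh : D.Good g h) : LocallyOfFiniteType h := by
  obtain ⟨_, hA⟩ := D.surj_p g D.a
  obtain ⟨_, hB⟩ := D.surj_p g D.b
  have ftA := (piece_lft D.a hg hh.1).1
  have ftB := (piece_lft D.b hg hh.2).1
  rw [HasRingHomProperty.iff_of_isAffine (P := @LocallyOfFiniteType)] at ftA ftB ⊢
  have hinv : ((Scheme.ΓSpecIso D.R).inv).hom.FiniteType :=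
    RingHom.FiniteType.of_surjective _ (ConcreteCategory.bijective_of_isIso _).2
  suffices (θ h).hom.FiniteType by
    rw [show h.appTop = (Scheme.ΓSpecIso D.R).hom ≫ θ h from (Iso.hom_inv_id_assoc _ _).symm]
    exact this.comp (RingHom.FiniteType.of_surjective _ (ConcreteCategory.bijective_of_isIso _).2)
  refine finiteType_glue (θ h).hom (D.a.p g).left.appTop.hom (D.b.p g).left.appTop.hom hA hB
    (D.inj g) ?_ ?_ fun y hy => ?_
  · rw [← CommRingCat.hom_comp, ← θ_comp]
    exact ftA.comp hinv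
  · rw [← CommRingCat.hom_comp, ← θ_comp]
    exact ftB.comp hinv
  have := D.b.affine
  let c := D.a.ci.1.snd D.b.j
  have : IsClosedImmersion c.left := D.a.ci.2 _ _ _ (D.a.ci.1.isPullback _)
  obtain ⟨_, hc⟩ := IsClosedImmersion.isAffine_surjective_of_isAffine c.left
  let ρ := (D.b.f g).left.appTop
  let J := (RingHom.ker c.left.appTop.hom).map ρ.hom
  have hJ : J ≤ (RingHom.ker ((D.a.p g).left.appTop.hom.comp (θ h).hom)).map
      ((D.b.p g).left.appTop.hom.comp (θ h).hom) := by
    refine Ideal.map_le_iff_le_comap.2 fun x hx => ?_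
    obtain ⟨r, hr₁, hr₂⟩ := D.hker _ x rfl (RingHom.mem_ker.1 hx)
    rw [← CommRingCat.hom_comp, ← CommRingCat.hom_comp, ← θ_comp, ← θ_comp, hh.1.eq, hh.2.eq,
      θ_comp, θ_comp]
    refine Ideal.mem_comap.2 ?_
    rw [← hr₂]
    exact Ideal.mem_map_of_mem ((θ D.b.r ≫ ρ).hom)
      (RingHom.mem_ker.2 (by simp only [CommRingCat.hom_comp, RingHom.comp_apply, hr₁, map_zero]))
  refine hJ ?_
  let Rq : CommRingCat.{u} := CommRingCat.of (Γ((D.b.pre g).left, ⊤) ⧸ J)
  let mk : Γ((D.b.pre g).left, ⊤) ⟶ Rq := CommRingCat.ofHom (Ideal.Quotient.mk J)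
  let uC : Γ((D.a.ci.1.pullback D.b.j).left, ⊤) ⟶ Rq :=
    CommRingCat.ofHom (RingHom.liftOfSurjective c.left.appTop.hom hc
      ⟨(ρ ≫ mk).hom, fun x hx => Ideal.Quotient.eq_zero_iff_mem.2 (Ideal.mem_map_of_mem ρ.hom hx)⟩)
  have huC : c.left.appTop ≫ uC = ρ ≫ mk := by
    exact CommRingCat.hom_ext (RingHom.liftOfRightInverse_comp _ _ _ _)
  have hC : fromSpec uC ≫ c.left = fromSpec mk ≫ (D.b.f g).left := ext_of_isAffine (by
    rw [Scheme.Hom.comp_appTop, Scheme.Hom.comp_appTop, fromSpec_appTop, fromSpec_appTop,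
      ← Category.assoc, huC, Category.assoc])
  let Q : Over S := Over.mk (fromSpec mk ≫ (D.b.pre g).hom)
  let l : Q ⟶ D.b.pre g := Over.homMk (fromSpec mk) rfl
  let zC : Q ⟶ D.a.ci.1.pullback D.b.j := Over.homMk (fromSpec uC) (by
    show _ = fromSpec mk ≫ (D.b.pre g).hom
    rw [← Over.w c, ← Category.assoc, hC, Category.assoc, Over.w (D.b.f g)])
  have e : zC ≫ c = l ≫ D.b.f g := Over.OverMorphism.ext hC
  have w : (yon S).map zC ≫ D.a.ci.1.fst D.b.j ≫ D.a.j = (yon S).map (l ≫ D.b.p g) ≫ g := by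
    rw [D.a.ci.1.w, ← Category.assoc, ← Functor.map_comp, e, Functor.map_comp, Category.assoc,
      (D.b.sq g).w, Functor.map_comp, Category.assoc]
  obtain ⟨m, hm⟩ := (yon S).map_surjective ((D.a.sq g).lift _ _ ((Category.assoc _ _ _).trans w))
  have hm₂ : m ≫ D.a.p g = l ≫ D.b.p g := (yon S).map_injective (by
    rw [Functor.map_comp, hm]; exact (D.a.sq g).lift_snd _ _ _)
  have h1 := RingHom.congr_fun (congrArg (fun q => q.left.appTop.hom) hm₂) y
  simp only [Over.comp_left, Scheme.Hom.comp_appTop, CommRingCat.hom_comp, RingHom.comp_apply] at h1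
  rw [hy, map_zero, show l.left.appTop = mk ≫ (Scheme.ΓSpecIso Rq).inv from fromSpec_appTop mk,
    CommRingCat.hom_comp, RingHom.comp_apply] at h1
  exact Ideal.Quotient.eq_zero_iff_mem.1 ((ConcreteCategory.bijective_of_isIso
    (Scheme.ΓSpecIso Rq).inv).1 (h1.symm.trans (map_zero _).symm))

theorem lqf_lft [IsReduced V.left] (hg : RepWith @Etale g)
    {h : V.left ⟶ Spec D.R} (hh : D.Good g h) :
    LocallyQuasiFinite h ∧ LocallyOfFiniteType h := by
  let 𝒰 := V.left.affineCover
  have hl : LocallyOfFiniteType h := by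
    refine (IsZariskiLocalAtSource.iff_of_openCover (P := @LocallyOfFiniteType) 𝒰).2 fun i => ?_
    let Vi : Over S := Over.mk (𝒰.f i ≫ V.hom)
    let k : Vi ⟶ V := Over.homMk (𝒰.f i) rfl
    have : IsAffine Vi.left := inferInstanceAs (IsAffine (𝒰.X i))
    have : IsReduced Vi.left := isReduced_of_isOpenImmersion (𝒰.f i)
    exact lft_affine (repWith_comp ((repWith_yon_map_iff @Etale k).2
      (inferInstanceAs (Etale (𝒰.f i)))) hg) (hh.precomp k)
  refine ⟨?_, hl⟩
  have := D.surjective_both g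
  have hq : LocallyQuasiFinite (D.both g ≫ h) ∧ LocallyOfFiniteType (D.both g ≫ h) := by
    obtain ⟨a₁, a₂⟩ := piece_lft D.a hg hh.1
    obtain ⟨b₁, b₂⟩ := piece_lft D.b hg hh.2
    rw [IsZariskiLocalAtSource.iff_of_openCover (P := @LocallyQuasiFinite) (coprodOpenCover.{u, 0} _ _),
      IsZariskiLocalAtSource.iff_of_openCover (P := @LocallyOfFiniteType) (coprodOpenCover.{u, 0} _ _)]
    refine ⟨fun i => ?_, fun i => ?_⟩ <;> rcases i with i | i <;>
      simp only [both, coprodOpenCover, Limits.coprod.inl_desc_assoc, Limits.coprod.inr_desc_assoc] <;>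
      assumption
  have := hq.1
  have := hq.2
  exact Groth.Agent.S9336.result (D.both g) h

end Data

end

end Groth.Agent.TwoPiece14
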