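import Groth.Agent.Lib.TwoPiece14.Scheme
import Groth.Agent.Lib.AlgSpace.SchemeLocus
import Groth.Agent.Lib.AlgSpDescent.MonoLft

/-!
# A reduced space covered by two closed subschemes is a scheme
-/

universe u

set_option backward.isDefEq.respectTransparency.types false
set_option backward.isDefEq.respectTransparency false
set_option linter.unusedVariables false

open CategoryTheory CategoryTheory.Limits AlgebraicGeometry Opposite
open TopologicalSpace (Opens)

namespace Groth.Agent.TwoPiece14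

open AlgSp Groth.Agent.AlgSpace Groth.Agent.AlgSpDecent

noncomputable section

variable {S : Scheme.{u}} {X : Sp S}

section Points

variable (hX : IsAlgSpace X) {G : Over S} {j : (yon S).obj G ⟶ X} (hj : RepWith @IsClosedImmersion j)

include hX hj

theorem injective_ofPt : Function.Injective (Points.ofPt j) := fun a b h => by
  rw [Points.ofPt_eq_map_ofScheme, Points.ofPt_eq_map_ofScheme] at h
  exact (Points.schemeEquiv G).injective
    ((isEmbedding_map_of_immersion hX (repWith_mono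
      (fun _ _ g (hg : IsClosedImmersion g) => (inferInstance : IsImmersion g)) hj)).1.injective h)

theorem isClosed_image {K : Set ↥G.left} (hK : IsClosed K) : IsClosed (Points.ofPt j '' K) := by
  rw [← isOpen_compl_iff]
  refine Points.isOpen_iff.2 fun T g => ?_
  have sq := hj.1.isPullback g
  have : IsClosedImmersion (hj.1.snd g).left := hj.2 g _ _ sq
  obtain ⟨f, hf⟩ := (yon S).map_surjective (hj.1.fst g)
  rw [← hf] at sq
  have e : Points.ofPt g ⁻¹' (Points.ofPt j '' K) = (hj.1.snd g).left '' (f.left ⁻¹' K) := by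
    ext t
    constructor
    · rintro ⟨z, hz, e⟩
      obtain ⟨w, -, hw⟩ := exists_pt_of_isPullback sq
        (x := Points.ofScheme G z) ((Points.ofPt_eq_map_ofScheme j z).symm.trans e)
      refine ⟨w, ?_, hw⟩
      have : Points.ofPt j (f.left w) = Points.ofPt j z := by
        rw [e, ← ofPt_map_comp, sq.w, ofPt_map_comp, hw]
      show f.left w ∈ K
      rw [injective_ofPt hX hj this]; exact hz
    · rintro ⟨w, hw, rfl⟩
      refine ⟨_, hw, ?_⟩
      rw [← ofPt_map_comp, sq.w, ofPt_map_comp]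
  rw [Set.preimage_compl, e, isOpen_compl_iff]
  exact (hj.1.snd g).left.isClosedEmbedding.isClosedMap _ (hK.preimage f.left.continuous)

omit hj hX in
theorem range_ofPt : Set.range (Points.ofPt j) = Set.range (Points.map j) := by
  ext x
  constructor
  · rintro ⟨z, rfl⟩; exact ⟨_, (Points.ofPt_eq_map_ofScheme j z).symm⟩
  · rintro ⟨y, rfl⟩
    obtain ⟨z, rfl⟩ := (Points.schemeEquiv G).surjective y
    exact ⟨z, Points.ofPt_eq_map_ofScheme j z⟩

end Points

variable (hX : IsAlgSpace X) (hred : IsReducedSp X) {GY GZ : Over S}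
  {jY : (yon S).obj GY ⟶ X} {jZ : (yon S).obj GZ ⟶ X}
  (hY : RepWith @IsClosedImmersion jY) (hZ : RepWith @IsClosedImmersion jZ)

include hX hred hY hZ

set_option maxHeartbeats 1000000 in
/-- Compatible affine opens of the two pieces give an open subspace which is a scheme. -/
theorem exists_open_scheme
    (cov : ∀ x : Points X, x ∈ Set.range (Points.ofPt jY) ∨ x ∈ Set.range (Points.ofPt jZ))
    (A : GY.left.Opens) (B : GZ.left.Opens) (hA : IsAffineOpen A) (hB : IsAffineOpen B)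
    (compat : ∀ y z, Points.ofPt jY y = Points.ofPt jZ z → (y ∈ A ↔ z ∈ B)) :
    ∃ (G : Over S) (w : (yon S).obj G ⟶ X), RepWith @IsOpenImmersion w ∧
      Points.ofPt jY '' A ∪ Points.ofPt jZ '' B ⊆ Set.range (Points.map w) := by
  let W : Set (Points X) :=
    (Points.ofPt jY '' (A : Set ↥GY.left)ᶜ ∪ Points.ofPt jZ '' (B : Set ↥GZ.left)ᶜ)ᶜ
  have hW : IsOpen W :=
    ((isClosed_image hX hY A.2.isClosed_compl).union (isClosed_image hX hZ B.2.isClosed_compl)).isOpen_compl
  have memA : ∀ y, Points.ofPt jY y ∈ W ↔ y ∈ A := fun y => by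
    refine ⟨fun h => not_not.1 fun hy => h (.inl ⟨y, hy, rfl⟩), fun hy h => ?_⟩
    rcases h with ⟨y', hy', e⟩ | ⟨z, hz, e⟩
    · exact hy' (injective_ofPt hX hY e ▸ hy)
    · exact hz ((compat y z e.symm).1 hy)
  have memB : ∀ z, Points.ofPt jZ z ∈ W ↔ z ∈ B := fun z => by
    refine ⟨fun h => not_not.1 fun hz => h (.inr ⟨z, hz, rfl⟩), fun hz h => ?_⟩
    rcases h with ⟨y, hy, e⟩ | ⟨z', hz', e⟩
    · exact hy ((compat y z e).2 hz)
    · exact hz' (injective_ofPt hX hZ e ▸ hz)
  have hι := repWith_openSubι hW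
  have hιinj : Function.Injective (Points.map (openSubι W)) :=
    (isEmbedding_map_of_immersion hX (repWith_mono
      (fun A B g (hg : IsOpenImmersion g) => (inferInstance : IsImmersion g)) hι)).1.injective
  -- the pieces
  have piece : ∀ {G : Over S} (j : (yon S).obj G ⟶ X) (hj : RepWith @IsClosedImmersion j)
      (O : G.left.Opens) (mem : ∀ y, Points.ofPt j y ∈ W ↔ y ∈ O),
      ∃ j' : (yon S).obj (Over.mk (O.ι ≫ G.hom)) ⟶ openSub W, RepWith @IsClosedImmersion j' ∧
        ∀ x, Points.map (openSubι W) x ∈ Set.range (Points.ofPt j) →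
          x ∈ Set.range (Points.map j') := by
    intro G j hj O mem
    let o : Over.mk (O.ι ≫ G.hom) ⟶ G := Over.homMk O.ι rfl
    obtain ⟨j', hj'⟩ := exists_factor_openSub (W := W) ((yon S).map o ≫ j) (by
      rintro _ ⟨x, rfl⟩
      obtain ⟨a, rfl⟩ := (Points.schemeEquiv _).surjective x
      show Points.map _ (Points.ofScheme _ a) ∈ W
      rw [← Points.ofPt_eq_map_ofScheme, ofPt_map_comp]
      exact (mem _).2 a.2)
    have := AlgSpDescent.mono_of_repWith_closedImmersion hj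
    have : IsOpenImmersion o.left := inferInstanceAs (IsOpenImmersion O.ι)
    have : Mono o := (Over.forget S).mono_of_mono_map (inferInstanceAs (Mono o.left))
    have : Mono j' := mono_of_mono_fac hj'
    have sq : IsPullback ((yon S).map o) j' j (openSubι W) := by
      refine (isPullback_of_mono_lifts (fst := j') (snd := (yon S).map o) (f := openSubι W) (g := j)
        hj' fun T y x w => ?_).flip
      obtain ⟨k, rfl⟩ := (yon S).map_surjective y
      have hk : Set.range k.left ⊆ Set.range o.left := by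
        rintro _ ⟨t, rfl⟩
        show _ ∈ Set.range O.ι
        rw [Scheme.Opens.range_ι]
        refine (mem _).1 ?_
        rw [← ofPt_map_comp, ← w]
        exact ofPt_openSubι_mem x t
      refine ⟨(yon S).map (Over.homMk (IsOpenImmersion.lift o.left k.left hk) (by
        rw [← Over.w o, IsOpenImmersion.lift_fac_assoc, Over.w k])), ?_⟩
      rw [← Functor.map_comp]
      congr 1
      exact Over.OverMorphism.ext (IsOpenImmersion.lift_fac _ _ _)
    refine ⟨j', repWith_of_isPullback sq hj, fun x hx => ?_⟩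
    obtain ⟨y, hy⟩ := hx
    have hyO : y ∈ O := (mem y).1 (hy ▸ (range_openSubι W).le ⟨x, rfl⟩)
    refine ⟨Points.ofScheme _ ⟨y, hyO⟩, hιinj ?_⟩
    rw [← hy, ← Points.map_comp, hj', ← Points.ofPt_eq_map_ofScheme, ofPt_map_comp]
    rfl
  obtain ⟨a, ha, hca⟩ := piece jY hY A memA
  obtain ⟨b, hb, hcb⟩ := piece jZ hZ B memB
  have : IsAffine (Over.mk (A.ι ≫ GY.hom)).left := hA
  have : IsAffine (Over.mk (B.ι ≫ GZ.hom)).left := hB
  obtain ⟨U, p, hpe, hps, hU⟩ := hred
  have sqp := hι.1.isPullback p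
  have hred' : IsReducedSp (openSub W) := by
    have : IsReduced U.left := hU
    have : IsOpenImmersion (hι.1.snd p).left := hι.2 p _ _ sqp
    exact ⟨_, _, repWith_of_isPullback sqp.flip hpe, repWith_of_isPullback sqp.flip hps,
      isReduced_of_isOpenImmersion (hι.1.snd p).left⟩
  obtain ⟨G, ⟨e⟩⟩ := exists_iso_yon_of_two_affine a b (isAlgSpace_of_representable hι.1 hX) hred'
    ha hb fun x => (cov _).imp (hca x) (hcb x)
  refine ⟨G, e.hom ≫ openSubι W, (repWith_respectsIso_left e.hom).2 hι, ?_⟩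
  rw [map_comp_eq, (bijective_map_iso e.hom).2.range_comp, range_openSubι]
  rintro _ (⟨y, hy, rfl⟩ | ⟨z, hz, rfl⟩)
  · exact (memA y).2 hy
  · exact (memB z).2 hz

omit hred in
theorem exists_affine_nbhds {y : ↥GY.left} {z : ↥GZ.left} (hyz : Points.ofPt jY y = Points.ofPt jZ z) :
    ∃ (A : GY.left.Opens) (B : GZ.left.Opens), IsAffineOpen A ∧ IsAffineOpen B ∧ y ∈ A ∧ z ∈ B ∧
      ∀ y z, Points.ofPt jY y = Points.ofPt jZ z → (y ∈ A ↔ z ∈ B) := by
  let C := hY.1.pullback jZ
  obtain ⟨cY, hcY⟩ := (yon S).map_surjective (hY.1.fst jZ)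
  let cZ : C ⟶ GZ := hY.1.snd jZ
  have sq : IsPullback ((yon S).map cY) ((yon S).map cZ) jY jZ := by
    rw [hcY]; exact hY.1.isPullback jZ
  have : IsClosedImmersion cY.left := hZ.2 jY _ _ sq.flip
  have : IsClosedImmersion cZ.left := hY.2 jZ _ _ (hY.1.isPullback jZ)
  have glue : ∀ y z, Points.ofPt jY y = Points.ofPt jZ z → ∃ c, cY.left c = y ∧ cZ.left c = z :=
    fun y z e => by
    obtain ⟨c, -, hc⟩ := exists_pt_of_isPullback sq (x := Points.ofScheme GY y)
      ((Points.ofPt_eq_map_ofScheme jY y).symm.trans e)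
    refine ⟨c, injective_ofPt hX hY ?_, hc⟩
    rw [e, ← ofPt_map_comp, sq.w, ofPt_map_comp, hc]
  obtain ⟨c, hcy, hcz⟩ := glue y z hyz
  -- affine neighbourhoods
  obtain ⟨A1, hA1, hyA1, -⟩ := exists_isAffineOpen_mem_and_subset (x := y) (U := ⊤) trivial
  obtain ⟨B1, hB1, hzB1, -⟩ := exists_isAffineOpen_mem_and_subset (x := z) (U := ⊤) trivial
  -- shrink the first
  let OA : GY.left.Opens := ⟨(cY.left '' ((cZ.left ⁻¹ᵁ B1 : C.left.Opens) : Set ↥C.left)ᶜ)ᶜ,
    (cY.left.isClosedEmbedding.isClosedMap _ (cZ.left ⁻¹ᵁ B1).2.isClosed_compl).isOpen_compl⟩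
  obtain ⟨A2, hA2, hyA2, hA2le⟩ := exists_isAffineOpen_mem_and_subset (x := y) (U := A1 ⊓ OA)
    ⟨hyA1, fun ⟨c', hc', e⟩ => hc' (by
      show cZ.left c' ∈ B1
      rw [cY.left.injective (e.trans hcy.symm), hcz]; exact hzB1)⟩
  have hsub : cY.left ⁻¹ᵁ A2 ≤ cZ.left ⁻¹ᵁ B1 := fun c' hc' =>
    not_not.1 fun h => (hA2le hc').2 ⟨c', h, rfl⟩
  -- shrink the second to a basic open
  let OB : Set ↥GZ.left := (cZ.left '' ((cY.left ⁻¹ᵁ A2 : C.left.Opens) : Set ↥C.left)ᶜ)ᶜ
  have hOB : IsOpen OB :=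
    (cZ.left.isClosedEmbedding.isClosedMap _ (cY.left ⁻¹ᵁ A2).2.isClosed_compl).isOpen_compl
  obtain ⟨b, hbOB, hzb⟩ := hB1.exists_basicOpen_le (V := ⟨OB, hOB⟩) ⟨z, fun ⟨c', hc', e⟩ => hc' (by
      show cY.left c' ∈ A2
      rw [cZ.left.injective (e.trans hcz.symm), hcy]; exact hyA2)⟩ hzB1
  let bC := C.left.presheaf.map (homOfLE hsub).op (cZ.left.app B1 b)
  obtain ⟨a, ha⟩ := cY.left.app_surjective A2 hA2 bC
  have key : cY.left ⁻¹ᵁ GY.left.basicOpen a = cZ.left ⁻¹ᵁ GZ.left.basicOpen b := by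
    rw [Scheme.preimage_basicOpen, ha, Scheme.basicOpen_res, ← Scheme.preimage_basicOpen]
    refine inf_eq_right.2 fun c' hc' => not_not.1 fun h => hbOB hc' ⟨c', h, rfl⟩
  refine ⟨GY.left.basicOpen a, GZ.left.basicOpen b, hA2.basicOpen a, hB1.basicOpen b, ?_, hzb,
    fun y' z' e => ?_⟩
  · rw [← hcy]
    show c ∈ cY.left ⁻¹ᵁ GY.left.basicOpen a
    rw [key]
    show cZ.left c ∈ GZ.left.basicOpen b
    rw [hcz]; exact hzb
  · obtain ⟨c', rfl, rfl⟩ := glue y' z' e
    show c' ∈ cY.left ⁻¹ᵁ GY.left.basicOpen a ↔ c' ∈ cZ.left ⁻¹ᵁ GZ.left.basicOpen b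
    rw [key]

omit hred hZ in
theorem exists_affine_away {T : Set (Points X)} (hT : IsClosed T) {y : ↥GY.left}
    (hy : Points.ofPt jY y ∉ T) :
    ∃ A : GY.left.Opens, IsAffineOpen A ∧ y ∈ A ∧ ∀ y' ∈ A, Points.ofPt jY y' ∉ T := by
  obtain ⟨A, hA, hyA, hle⟩ := exists_isAffineOpen_mem_and_subset (x := y)
    (U := ⟨(Points.ofPt jY ⁻¹' T)ᶜ, (hT.preimage (Points.continuous_ofPt jY)).isOpen_compl⟩) hy
  exact ⟨A, hA, hyA, fun y' hy' => hle hy'⟩

/-- A reduced space covered by two closed subschemes is a scheme. -/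
theorem isRepresentable_of_two_closed
    (cov : ∀ x : Points X, x ∈ Set.range (Points.ofPt jY) ∨ x ∈ Set.range (Points.ofPt jZ)) :
    X.obj.IsRepresentable := by
  have near : ∀ x : Points X, ∃ (G : Over S) (w : (yon S).obj G ⟶ X),
      RepWith @IsOpenImmersion w ∧ x ∈ Set.range (Points.map w) := by
    intro x
    by_cases hxZ : x ∈ Set.range (Points.ofPt jZ)
    · obtain ⟨z, rfl⟩ := hxZ
      by_cases hxY : Points.ofPt jZ z ∈ Set.range (Points.ofPt jY)
      · obtain ⟨y, hy⟩ := hxY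
        obtain ⟨A, B, hA, hB, hyA, hzB, h⟩ := exists_affine_nbhds hX hY hZ hy
        obtain ⟨G, w, hw, hsub⟩ := exists_open_scheme hX hred hY hZ cov A B hA hB h
        exact ⟨G, w, hw, hsub (.inr ⟨z, hzB, rfl⟩)⟩
      · obtain ⟨B, hB, hzB, hBT⟩ := exists_affine_away hX hZ
          (T := Set.range (Points.ofPt jY)) (by
            rw [← Set.image_univ]; exact isClosed_image hX hY isClosed_univ) hxY
        obtain ⟨G, w, hw, hsub⟩ := exists_open_scheme hX hred hY hZ cov ⊥ B (isAffineOpen_bot _) hB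
          (fun y' z' e => ⟨fun h => h.elim, fun h => absurd ⟨y', e⟩ (hBT z' h)⟩)
        exact ⟨G, w, hw, hsub (.inr ⟨z, hzB, rfl⟩)⟩
    · obtain ⟨y, rfl⟩ := (cov x).resolve_right hxZ
      obtain ⟨A, hA, hyA, hAT⟩ := exists_affine_away hX hY
        (T := Set.range (Points.ofPt jZ)) (by
          rw [← Set.image_univ]; exact isClosed_image hX hZ isClosed_univ) hxZ
      obtain ⟨G, w, hw, hsub⟩ := exists_open_scheme hX hred hY hZ cov A ⊥ hA (isAffineOpen_bot _)
        (fun y' z' e => ⟨fun h => absurd ⟨z', e.symm⟩ (hAT y' h), fun h => h.elim⟩)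
      exact ⟨G, w, hw, hsub (.inl ⟨y, hyA, rfl⟩)⟩
  choose G w hw hmem using near
  obtain ⟨U, p, hpe, hps⟩ := hX.atlas
  obtain ⟨H, ⟨e⟩⟩ := exists_iso_yon_of_points_cover (κ := ↥U.left)
    (U := fun v => G (Points.ofPt p v)) (w := fun v => w (Points.ofPt p v)) (fun v => hw _) fun x => by
    obtain ⟨v, rfl⟩ := surjective_ofPt hps x
    exact ⟨v, hmem _⟩
  exact isRepresentable_of_iso_yon e

end

end Groth.Agent.TwoPiece14
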