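import Groth.Agent.Lib.TwoPiece14.Basic

/-!
# The map to the spectrum is separated and locally quasi-finite
-/

universe u

set_option backward.isDefEq.respectTransparency.types false
set_option backward.isDefEq.respectTransparency false
set_option linter.unusedVariables false

open CategoryTheory CategoryTheory.Limits AlgebraicGeometry Opposite

namespace Groth.Agent.TwoPiece14

open AlgSp Groth.Agent.AlgSpace Groth.Agent.AlgSpDecent

noncomputable section

variable {S : Scheme.{u}}

variable (S) in
/-- The spectrum times the base. -/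
def target (R : CommRingCat.{u}) : Over S :=
  Over.mk (pullback.fst (terminal.from S) (terminal.from (Spec R)))

/-- The projection to the spectrum. -/
def targetSnd (R : CommRingCat.{u}) : (target S R).left ⟶ Spec R :=
  pullback.snd (terminal.from S) (terminal.from (Spec R))

/-- A map to the spectrum gives one to the target. -/
def toTarget {R : CommRingCat.{u}} {V : Over S} (h : V.left ⟶ Spec R) : V ⟶ target S R :=
  Over.homMk (pullback.lift V.hom h (terminal.hom_ext _ _)) (pullback.lift_fst _ _ _)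

lemma toTarget_snd {R : CommRingCat.{u}} {V : Over S} (h : V.left ⟶ Spec R) :
    (toTarget h).left ≫ targetSnd R = h :=
  pullback.lift_snd _ _ _

lemma hom_ext_target {R : CommRingCat.{u}} {V : Over S} {h h' : V ⟶ target S R}
    (e : h.left ≫ targetSnd R = h'.left ≫ targetSnd R) : h = h' :=
  Over.OverMorphism.ext (pullback.hom_ext ((Over.w h).trans (Over.w h').symm) e)

namespace Data

variable (D : Data S)

theorem exists_pi : ∃ (U : Over S) (p : (yon S).obj U ⟶ D.W) (h : U.left ⟶ Spec D.R)
    (π : D.W ⟶ (yon S).obj (target S D.R)),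
    RepWith @Etale p ∧ RepWith @Surjective p ∧ IsReduced U.left ∧ D.Good p h ∧
      p ≫ π = (yon S).map (toTarget h) := by
  obtain ⟨U, p, hpe, hps, hU⟩ := D.red
  have : IsReduced U.left := hU
  obtain ⟨h, hh⟩ := D.exists_good p
  have : Sheaf.IsLocallySurjective p := isLocallySurjective_of_etale hpe hps
  have : Epi p := Sheaf.epi_of_isLocallySurjective' p
  let s := hpe.1.snd p
  have sq := hpe.1.isPullback p
  obtain ⟨t, ht⟩ := (yon S).map_surjective (hpe.1.fst p)
  rw [← ht] at sq
  have : IsReduced (hpe.1.pullback p).left :=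
    AlgSpDescent.isReduced_up s.left (hpe.2 p _ _ sq) hU
  have e : t ≫ toTarget h = s ≫ toTarget h := hom_ext_target (by
    rw [Over.comp_left, Over.comp_left, Category.assoc, Category.assoc, toTarget_snd]
    exact D.uniq _ (hh.precomp t) (sq.w.symm ▸ hh.precomp s))
  let hf := regularEpiOfEpi p
  have w : hf.left ≫ (yon S).map (toTarget h) = hf.right ≫ (yon S).map (toTarget h) := by
    rw [← sq.lift_fst _ _ hf.w]
    conv_rhs => rw [← sq.lift_snd _ _ hf.w]
    rw [Category.assoc, Category.assoc, ← Functor.map_comp, ← Functor.map_comp, e]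
  exact ⟨U, p, h, (hf.desc' _ w).1, hpe, hps, hU, hh, (hf.desc' _ w).2⟩

variable {U : Over S} {p : (yon S).obj U ⟶ D.W} {h : U.left ⟶ Spec D.R}
  {π : D.W ⟶ (yon S).obj (target S D.R)}

theorem j_pi (hpe : RepWith @Etale p) (hps : RepWith @Surjective p)
    (hπ : p ≫ π = (yon S).map (toTarget h)) (a : Piece D.W D.R) (hh : a.Good p h) :
    a.j ≫ π = (yon S).map (toTarget a.r) := by
  have : Sheaf.IsLocallySurjective ((yon S).map (a.f p)) := isLocallySurjective_of_etale
    (repWith_of_isPullback (a.sq p).flip hpe) (repWith_of_isPullback (a.sq p).flip hps)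
  have : Epi ((yon S).map (a.f p)) := Sheaf.epi_of_isLocallySurjective' _
  rw [← cancel_epi ((yon S).map (a.f p)), ← Category.assoc, (a.sq p).w, Category.assoc, hπ,
    ← Functor.map_comp, ← Functor.map_comp]
  congr 1
  apply hom_ext_target
  rw [Over.comp_left, Over.comp_left, Category.assoc, Category.assoc, toTarget_snd, toTarget_snd,
    hh.eq]

theorem exists_diag_piece (a : Piece D.W D.R) (hj : a.j ≫ π = (yon S).map (toTarget a.r))
    {T V : Over S} {g : (yon S).obj T ⟶ pullback π π} {fst : (yon S).obj V ⟶ D.W} {snd : V ⟶ T}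
    (sq : IsPullback fst ((yon S).map snd) (pullback.diagonal π) g) :
    ∃ (P : Over S) (k : P ⟶ T) (l : P ⟶ V), IsClosedImmersion k.left ∧ l ≫ snd = k ∧
      ∀ v : ↥V.left, Points.ofPt fst v ∈ Set.range (Points.map a.j) →
        snd.left v ∈ Set.range k.left := by
  let t₁ := g ≫ pullback.fst π π
  let t₂ := g ≫ pullback.snd π π
  let k₁ := a.p t₁
  let k₂ := a.p t₂
  let P := pullback k₁ k₂
  have sqP := (IsPullback.of_hasPullback k₁ k₂).map (Over.forget S)
  have hc₁ : IsClosedImmersion k₁.left := a.closed t₁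
  have hc₂ : IsClosedImmersion k₂.left := a.closed t₂
  have : IsClosedImmersion (pullback.snd k₁ k₂).left :=
    MorphismProperty.of_isPullback (P := @IsClosedImmersion) sqP hc₁
  let k := pullback.snd k₁ k₂ ≫ k₂
  let u₁ := pullback.fst k₁ k₂ ≫ a.f t₁
  let u₂ := pullback.snd k₁ k₂ ≫ a.f t₂
  have w₁ : (yon S).map u₁ ≫ a.j = (yon S).map k ≫ t₁ := by
    rw [Functor.map_comp, Category.assoc, (a.sq t₁).w, ← Category.assoc, ← Functor.map_comp,
      pullback.condition]
  have w₂ : (yon S).map u₂ ≫ a.j = (yon S).map k ≫ t₂ := by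
    rw [Functor.map_comp, Category.assoc, (a.sq t₂).w, ← Category.assoc, ← Functor.map_comp]
  have hu : u₁ = u₂ := by
    have e : (yon S).map (u₁ ≫ toTarget a.r) = (yon S).map (u₂ ≫ toTarget a.r) := by
      rw [(yon S).map_comp u₁ (toTarget a.r), (yon S).map_comp u₂ (toTarget a.r), ← hj,
        ← Category.assoc, ← Category.assoc, w₁, w₂]
      simp only [t₁, t₂, Category.assoc, pullback.condition]
    have e' := congrArg (fun q => q.left ≫ targetSnd D.R) ((yon S).map_injective e)
    simp only [Over.comp_left, Category.assoc, toTarget_snd] at e'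
    have := a.rci
    exact Over.OverMorphism.ext ((cancel_mono a.r).1 e')
  have w : ((yon S).map u₁ ≫ a.j) ≫ pullback.diagonal π = (yon S).map k ≫ g := by
    apply pullback.hom_ext
    · rw [Category.assoc, pullback.diagonal_fst, Category.comp_id, w₁, Category.assoc]
    · rw [Category.assoc, pullback.diagonal_snd, Category.comp_id, hu, w₂, Category.assoc]
  obtain ⟨l, hl⟩ := (yon S).map_surjective (sq.lift _ _ w)
  refine ⟨P, k, l, inferInstanceAs (IsClosedImmersion ((pullback.snd k₁ k₂).left ≫ k₂.left)),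
    (yon S).map_injective (by rw [Functor.map_comp, hl]; exact sq.lift_snd _ _ _), fun v hv => ?_⟩
  have h₁ : Points.ofPt t₁ (snd.left v) = Points.ofPt fst v := by
    rw [← ofPt_map_comp, show (yon S).map snd ≫ t₁ = fst by
      simp only [t₁, ← Category.assoc, ← sq.w]
      rw [Category.assoc, pullback.diagonal_fst, Category.comp_id]]
  have h₂ : Points.ofPt t₂ (snd.left v) = Points.ofPt fst v := by
    rw [← ofPt_map_comp, show (yon S).map snd ≫ t₂ = fst by
      simp only [t₂, ← Category.assoc, ← sq.w]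
      rw [Category.assoc, pullback.diagonal_snd, Category.comp_id]]
  obtain ⟨y₁, hy₁⟩ := a.mem_range t₁ (h₁ ▸ hv)
  obtain ⟨y₂, hy₂⟩ := a.mem_range t₂ (h₂ ▸ hv)
  obtain ⟨z, -, hz⟩ := Scheme.exists_preimage_of_isPullback sqP y₁ y₂ (hy₁.trans hy₂.symm)
  exact ⟨z, (Scheme.Hom.comp_apply _ _ _).trans ((congrArg k₂.left hz).trans hy₂)⟩

theorem isSeparatedMor_pi (ha : D.a.j ≫ π = (yon S).map (toTarget D.a.r))
    (hb : D.b.j ≫ π = (yon S).map (toTarget D.b.r)) : IsSeparatedMor π := by
  have hrep := representable_diagonal D.hW π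
  refine ⟨hrep, fun T V g fst snd sq => ?_⟩
  have : LocallyOfFiniteType snd.left := (repWith_diagonal_lft D.hW π).2 g fst snd sq
  have : Mono snd.left := (repWith_diagonal_mono D.hW π).2 g fst snd sq
  have closedMap : ∀ {T V : Over S} {g : (yon S).obj T ⟶ pullback π π} {fst : (yon S).obj V ⟶ D.W}
      {snd : V ⟶ T}, IsPullback fst ((yon S).map snd) (pullback.diagonal π) g →
        IsClosedMap snd.left := fun {T V g fst snd} sq K hK => by
    have : Mono snd.left := (repWith_diagonal_mono D.hW π).2 g fst snd sq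
    obtain ⟨PA, kA, lA, hkA, hlA, hA⟩ := D.exists_diag_piece D.a ha sq
    obtain ⟨PB, kB, lB, hkB, hlB, hB⟩ := D.exists_diag_piece D.b hb sq
    have inA : ∀ z, snd.left (lA.left z) = kA.left z := fun z =>
      (Scheme.Hom.comp_apply _ _ _).symm.trans (congrArg (fun q : PA ⟶ T => q.left z) hlA)
    have inB : ∀ z, snd.left (lB.left z) = kB.left z := fun z =>
      (Scheme.Hom.comp_apply _ _ _).symm.trans (congrArg (fun q : PB ⟶ T => q.left z) hlB)
    have e : snd.left '' K = kA.left '' (lA.left ⁻¹' K) ∪ kB.left '' (lB.left ⁻¹' K) := by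
      ext t
      constructor
      · rintro ⟨v, hv, rfl⟩
        rcases D.cov (Points.ofPt fst v) with hx | hx
        · obtain ⟨z, hz⟩ := hA v hx
          exact .inl ⟨z, show lA.left z ∈ K from
            (snd.left.injective ((inA z).trans hz) : lA.left z = v) ▸ hv, hz⟩
        · obtain ⟨z, hz⟩ := hB v hx
          exact .inr ⟨z, show lB.left z ∈ K from
            (snd.left.injective ((inB z).trans hz) : lB.left z = v) ▸ hv, hz⟩
      · rintro (⟨z, hz, rfl⟩ | ⟨z, hz, rfl⟩)
        · exact ⟨_, hz, inA z⟩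
        · exact ⟨_, hz, inB z⟩
    rw [e]
    exact (kA.left.isClosedEmbedding.isClosedMap _ (hK.preimage lA.left.continuous)).union
      (kB.left.isClosedEmbedding.isClosedMap _ (hK.preimage lB.left.continuous))
  have : UniversallyClosed snd.left := ⟨fun X' Y' i₁ i₂ f' H => by
    let T' : Over S := Over.mk (i₂ ≫ T.hom)
    let V' : Over S := Over.mk (i₁ ≫ V.hom)
    let s' : V' ⟶ T' := Over.homMk f' (by
      show f' ≫ i₂ ≫ T.hom = i₁ ≫ V.hom
      rw [← Over.w snd, ← Category.assoc, ← Category.assoc, H.w])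
    let e₁ : V' ⟶ V := Over.homMk i₁ rfl
    let e₂ : T' ⟶ T := Over.homMk i₂ rfl
    have H' : IsPullback e₁ s' snd e₂ :=
      IsPullback.of_map (Over.forget S) (Over.OverMorphism.ext H.w.symm) H.flip
    exact closedMap ((H'.map (yon S)).paste_horiz sq)⟩
  have : IsProper snd.left := {}
  show IsClosedImmersion snd.left
  exact (IsClosedImmersion.iff_isProper_and_mono _).2 ⟨inferInstance, inferInstance⟩

theorem exists_iso_yon : ∃ G : Over S, Nonempty ((yon S).obj G ≅ D.W) := by
  obtain ⟨U, p, h, π, hpe, hps, hU, hh, hπ⟩ := D.exists_pi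
  refine exists_iso_yon_of_lqf_separated D.hW π
    (D.isSeparatedMor_pi (D.j_pi hpe hps hπ D.a hh.1) (D.j_pi hpe hps hπ D.b hh.2)) ?_
  obtain ⟨hq, hl⟩ := Data.lqf_lft hpe hh
  refine locP_of_one_chart p (𝟙 _) (toTarget h) hpe hps (repWith_id _ _)
    (by rw [hπ, Category.comp_id]) ?_
  rw [← toTarget_snd h] at hq hl
  exact ⟨LocallyQuasiFinite.of_comp _ (targetSnd D.R), locallyOfFiniteType_of_comp _ (targetSnd D.R)⟩

end Data

/-! ## Two affine closed subspaces -/

variable {W : Sp S} {A B : Over S} (jA : (yon S).obj A ⟶ W) (jB : (yon S).obj B ⟶ W)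

/-- A reduced space covered by two affine closed subspaces is a scheme. -/
theorem exists_iso_yon_of_two_affine (hW : IsAlgSpace W) (hred : IsReducedSp W)
    [IsAffine A.left] [IsAffine B.left] (hA : RepWith @IsClosedImmersion jA)
    (hB : RepWith @IsClosedImmersion jB)
    (cov : ∀ x : Points W, x ∈ Set.range (Points.map jA) ∨ x ∈ Set.range (Points.map jB)) :
    ∃ G : Over S, Nonempty ((yon S).obj G ≅ W) := by
  let C := hA.1.pullback jB
  let cB : C ⟶ B := hA.1.snd jB
  obtain ⟨cA, hcA⟩ := (yon S).map_surjective (hA.1.fst jB)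
  have sqC : IsPullback ((yon S).map cA) ((yon S).map cB) jA jB := by
    rw [hcA]; exact hA.1.isPullback jB
  have : IsClosedImmersion cB.left := hA.2 jB _ _ (hA.1.isPullback jB)
  have : IsClosedImmersion cA.left := hB.2 jA _ _ sqC.flip
  obtain ⟨_, hsB⟩ := IsClosedImmersion.isAffine_surjective_of_isAffine cB.left
  obtain ⟨_, hsA⟩ := IsClosedImmersion.isAffine_surjective_of_isAffine cA.left
  let E : Subring (Γ(A.left, ⊤) × Γ(B.left, ⊤)) :=
    (cA.left.appTop.hom.comp (RingHom.fst _ _)).eqLocus (cB.left.appTop.hom.comp (RingHom.snd _ _))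
  let R : CommRingCat.{u} := CommRingCat.of E
  let prA : R ⟶ Γ(A.left, ⊤) := CommRingCat.ofHom ((RingHom.fst _ _).comp E.subtype)
  let prB : R ⟶ Γ(B.left, ⊤) := CommRingCat.ofHom ((RingHom.snd _ _).comp E.subtype)
  have hcompat : prA ≫ cA.left.appTop = prB ≫ cB.left.appTop := CommRingCat.hom_ext
    (RingHom.ext fun r => r.2)
  have sA : Function.Surjective prA.hom := fun x => by
    obtain ⟨y, hy⟩ := hsB (cA.left.appTop.hom x)
    exact ⟨⟨(x, y), hy.symm⟩, rfl⟩
  have sB : Function.Surjective prB.hom := fun y => by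
    obtain ⟨x, hx⟩ := hsA (cB.left.appTop.hom y)
    exact ⟨⟨(x, y), hx⟩, rfl⟩
  let rA : A.left ⟶ Spec R := A.left.toSpecΓ ≫ Spec.map prA
  let rB : B.left ⟶ Spec R := B.left.toSpecΓ ≫ Spec.map prB
  have : IsClosedImmersion (Spec.map prA) := IsClosedImmersion.spec_of_surjective _ sA
  have : IsClosedImmersion (Spec.map prB) := IsClosedImmersion.spec_of_surjective _ sB
  let a : Piece W R := ⟨A, jA, hA, rA, inferInstance⟩
  let b : Piece W R := ⟨B, jB, hB, rB, inferInstance⟩
  let D : Data S :=
    { W := W, hW := hW, red := hred, R := R, a := a, b := b, cov := cov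
      compat := fun Q za zb w => by
        obtain ⟨z, hz⟩ := (yon S).map_surjective (sqC.lift _ _ w)
        have e₁ : z ≫ cA = za := (yon S).map_injective (by
          rw [Functor.map_comp, hz]; exact sqC.lift_fst _ _ _)
        have e₂ : z ≫ cB = zb := (yon S).map_injective (by
          rw [Functor.map_comp, hz]; exact sqC.lift_snd _ _ _)
        apply θ_ext
        rw [← e₁, ← e₂]
        show θ ((z ≫ cA).left ≫ rA) = θ ((z ≫ cB).left ≫ rB)
        rw [θ_comp (z ≫ cA).left rA, θ_comp (z ≫ cB).left rB, show θ rA = prA from θ_toSpec _,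
          show θ rB = prB from θ_toSpec _, Over.comp_left, Over.comp_left, Scheme.Hom.comp_appTop,
          Scheme.Hom.comp_appTop, ← Category.assoc, hcompat, Category.assoc]
      hker := fun x y hy hx => by
        refine ⟨⟨(0, y), ?_⟩, ?_, ?_⟩
        · show cA.left.appTop.hom 0 = cB.left.appTop.hom y
          rw [map_zero]
          exact (hy.trans hx).symm
        · simp only [a, rA, θ_toSpec]; rfl
        · simp only [b, rB, θ_toSpec]; rfl }
  exact D.exists_iso_yon

end

end Groth.Agent.TwoPiece14
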